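import Cfsg.Agent.Lib.CosetEnum.Fi22U62.TabF_Data0
import Cfsg.Agent.Lib.CosetEnum.Fi22U62.TabC_Data0
import Cfsg.Agent.Lib.CosetEnum.Fi22U62.TabC_Data1
import Cfsg.Agent.Lib.CosetEnum.Fi22U62.TabC_Data2
import Cfsg.Agent.Lib.CosetEnum.Fi22U62.TabC_Data3
import Cfsg.Agent.Lib.CosetEnum.Fi22U62.TabC_Data4
import Cfsg.Agent.Lib.CosetEnum.Fi22U62.TabC_Data5
import Cfsg.Agent.Lib.CosetEnum.Fi22U62.TabC_Data6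
import Cfsg.Agent.Lib.CosetEnum.Fi22U62.TabC_Data7
import Cfsg.Agent.Lib.CosetEnum.Fi22U62.TabZ_Data0
import Cfsg.Agent.Lib.CosetEnum.Fi22U62.TabP_Data0
import Cfsg.Agent.Lib.CosetEnum.Fi22U62.Orb0_Data0
import Cfsg.Agent.Lib.CosetEnum.Fi22U62.Pos0_Data0
import Cfsg.Agent.Lib.CosetEnum.Fi22U62.Orb1_Data0
import Cfsg.Agent.Lib.CosetEnum.Fi22U62.Pos1_Data0

/-! Generated certificate. -/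

set_option autoImplicit false
set_option maxRecDepth 20000

namespace Cfsg.Lib.CosetEnum.Fi22U62

/-- Table. -/
def tabF : Tab :=
  tabF_0

/-- Table. -/
def tabC : Tab :=
  (.node 8192 (.node 4096 (.node 2048 tabC_0 tabC_1) (.node 2048 tabC_2 tabC_3)) (.node 4096 (.node 2048 tabC_4 tabC_5) (.node 2048 tabC_6 tabC_7)))

/-- Table. -/
def tabZ : Tab :=
  tabZ_0

/-- Table. -/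
def tabP : Tab :=
  tabP_0

/-- Table. -/
def orb0 : Tab :=
  orb0_0

/-- Table. -/
def pos0 : Tab :=
  pos0_0

/-- Table. -/
def orb1 : Tab :=
  orb1_0

/-- Table. -/
def pos1 : Tab :=
  pos1_0

/-- The shifts in use. -/
def relWords : List (List Nat) :=
  [[0, 0],
    [1, 1],
    [2, 2],
    [3, 3],
    [4, 4],
    [5, 5],
    [6, 6],
    [7, 7],
    [8, 8],
    [0, 1, 0, 1, 0, 1],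
    [0, 2, 0, 2],
    [0, 3, 0, 3],
    [0, 4, 0, 4],
    [0, 5, 0, 5],
    [0, 6, 0, 6],
    [0, 7, 0, 7],
    [0, 8, 0, 8],
    [1, 2, 1, 2, 1, 2],
    [1, 3, 1, 3],
    [1, 4, 1, 4],
    [1, 5, 1, 5],
    [1, 6, 1, 6],
    [1, 7, 1, 7],
    [1, 8, 1, 8],
    [2, 3, 2, 3, 2, 3],
    [2, 4, 2, 4],
    [2, 5, 2, 5],
    [2, 6, 2, 6],
    [2, 7, 2, 7],
    [2, 8, 2, 8],
    [3, 4, 3, 4, 3, 4],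
    [3, 5, 3, 5],
    [3, 6, 3, 6],
    [3, 7, 3, 7, 3, 7],
    [3, 8, 3, 8],
    [4, 5, 4, 5, 4, 5],
    [4, 6, 4, 6],
    [4, 7, 4, 7],
    [4, 8, 4, 8],
    [5, 6, 5, 6, 5, 6],
    [5, 7, 5, 7],
    [5, 8, 5, 8],
    [6, 7, 6, 7],
    [6, 8, 6, 8],
    [7, 8, 7, 8, 7, 8],
    [3, 2, 1, 3, 4, 5, 3, 7, 8, 3, 2, 1, 3, 4, 5, 3, 7, 8, 3, 2, 1, 3, 4, 5, 3, 7, 8, 3, 2, 1, 3, 4, 5, 3, 7, 8, 3, 2, 1, 3, 4, 5, 3, 7, 8, 3, 2, 1, 3, 4, 5, 3, 7, 8, 3, 2, 1, 3, 4, 5, 3, 7, 8, 3, 2, 1, 3, 4, 5, 3, 7, 8, 3, 2, 1, 3, 4, 5, 3, 7, 8, 3, 2, 1, 3, 4, 5, 3, 7, 8],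
    [0, 1, 2, 3, 4, 5, 7, 0, 1, 2, 3, 4, 5, 7, 0, 1, 2, 3, 4, 5, 7, 0, 1, 2, 3, 4, 5, 7, 0, 1, 2, 3, 4, 5, 7, 0, 1, 2, 3, 4, 5, 7, 0, 1, 2, 3, 4, 5, 7, 0, 1, 2, 3, 4, 5, 7, 0, 1, 2, 3, 4, 5, 7],
    [1, 2, 3, 4, 5, 6, 7, 1, 2, 3, 4, 5, 6, 7, 1, 2, 3, 4, 5, 6, 7, 1, 2, 3, 4, 5, 6, 7, 1, 2, 3, 4, 5, 6, 7, 1, 2, 3, 4, 5, 6, 7, 1, 2, 3, 4, 5, 6, 7, 1, 2, 3, 4, 5, 6, 7, 1, 2, 3, 4, 5, 6, 7]]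

/-- Subgroup words. -/
def subWords : List (List Nat) :=
  [[0],
    [2],
    [3],
    [4],
    [5],
    [6],
    [7],
    [8],
    [7, 4, 3, 2, 1, 0, 7, 4, 3, 2, 1, 0, 7, 4, 3, 2, 1, 0, 7, 4, 3, 2, 1, 0, 7, 4, 3, 2, 1, 0]]

/-- The certificate. -/
def step : StepCert :=
  ⟨relWords, subWords, [0, 1, 2, 3, 4, 5, 6, 7, 8], tabF, tabC, tabZ, tabP, 3509, 15409, 3510, 9⟩

/-- All relator words. -/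
def baseWords : List (List Nat) :=
  [[0, 0],
    [1, 0, 1, 0, 1, 0],
    [2, 0, 2, 0],
    [3, 0, 3, 0],
    [4, 0, 4, 0],
    [5, 0, 5, 0],
    [6, 0, 6, 0],
    [7, 0, 7, 0],
    [8, 0, 8, 0],
    [0, 1, 0, 1, 0, 1],
    [1, 1],
    [2, 1, 2, 1, 2, 1],
    [3, 1, 3, 1],
    [4, 1, 4, 1],
    [5, 1, 5, 1],
    [6, 1, 6, 1],
    [7, 1, 7, 1],
    [8, 1, 8, 1],
    [0, 2, 0, 2],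
    [1, 2, 1, 2, 1, 2],
    [2, 2],
    [3, 2, 3, 2, 3, 2],
    [4, 2, 4, 2],
    [5, 2, 5, 2],
    [6, 2, 6, 2],
    [7, 2, 7, 2],
    [8, 2, 8, 2],
    [0, 3, 0, 3],
    [1, 3, 1, 3],
    [2, 3, 2, 3, 2, 3],
    [3, 3],
    [4, 3, 4, 3, 4, 3],
    [5, 3, 5, 3],
    [6, 3, 6, 3],
    [7, 3, 7, 3, 7, 3],
    [8, 3, 8, 3],
    [0, 4, 0, 4],
    [1, 4, 1, 4],
    [2, 4, 2, 4],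
    [3, 4, 3, 4, 3, 4],
    [4, 4],
    [5, 4, 5, 4, 5, 4],
    [6, 4, 6, 4],
    [7, 4, 7, 4],
    [8, 4, 8, 4],
    [0, 5, 0, 5],
    [1, 5, 1, 5],
    [2, 5, 2, 5],
    [3, 5, 3, 5],
    [4, 5, 4, 5, 4, 5],
    [5, 5],
    [6, 5, 6, 5, 6, 5],
    [7, 5, 7, 5],
    [8, 5, 8, 5],
    [0, 6, 0, 6],
    [1, 6, 1, 6],
    [2, 6, 2, 6],
    [3, 6, 3, 6],
    [4, 6, 4, 6],
    [5, 6, 5, 6, 5, 6],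
    [6, 6],
    [7, 6, 7, 6],
    [8, 6, 8, 6],
    [0, 7, 0, 7],
    [1, 7, 1, 7],
    [2, 7, 2, 7],
    [3, 7, 3, 7, 3, 7],
    [4, 7, 4, 7],
    [5, 7, 5, 7],
    [6, 7, 6, 7],
    [7, 7],
    [8, 7, 8, 7, 8, 7],
    [0, 8, 0, 8],
    [1, 8, 1, 8],
    [2, 8, 2, 8],
    [3, 8, 3, 8],
    [4, 8, 4, 8],
    [5, 8, 5, 8],
    [6, 8, 6, 8],
    [7, 8, 7, 8, 7, 8],
    [8, 8],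
    [8, 7, 3, 5, 4, 3, 1, 2, 3, 8, 7, 3, 5, 4, 3, 1, 2, 3, 8, 7, 3, 5, 4, 3, 1, 2, 3, 8, 7, 3, 5, 4, 3, 1, 2, 3, 8, 7, 3, 5, 4, 3, 1, 2, 3, 8, 7, 3, 5, 4, 3, 1, 2, 3, 8, 7, 3, 5, 4, 3, 1, 2, 3, 8, 7, 3, 5, 4, 3, 1, 2, 3, 8, 7, 3, 5, 4, 3, 1, 2, 3, 8, 7, 3, 5, 4, 3, 1, 2, 3],
    [7, 5, 4, 3, 2, 1, 0, 7, 5, 4, 3, 2, 1, 0, 7, 5, 4, 3, 2, 1, 0, 7, 5, 4, 3, 2, 1, 0, 7, 5, 4, 3, 2, 1, 0, 7, 5, 4, 3, 2, 1, 0, 7, 5, 4, 3, 2, 1, 0, 7, 5, 4, 3, 2, 1, 0, 7, 5, 4, 3, 2, 1, 0],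
    [7, 6, 5, 4, 3, 2, 1, 7, 6, 5, 4, 3, 2, 1, 7, 6, 5, 4, 3, 2, 1, 7, 6, 5, 4, 3, 2, 1, 7, 6, 5, 4, 3, 2, 1, 7, 6, 5, 4, 3, 2, 1, 7, 6, 5, 4, 3, 2, 1, 7, 6, 5, 4, 3, 2, 1, 7, 6, 5, 4, 3, 2, 1]]

/-- Relator words checked on the table. -/
def halfWords : List (List Nat) :=
  [[0, 0],
    [1, 0, 1, 0, 1, 0],
    [2, 0, 2, 0],
    [3, 0, 3, 0],
    [4, 0, 4, 0],
    [5, 0, 5, 0],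
    [6, 0, 6, 0],
    [7, 0, 7, 0],
    [8, 0, 8, 0],
    [1, 1],
    [2, 1, 2, 1, 2, 1],
    [3, 1, 3, 1],
    [4, 1, 4, 1],
    [5, 1, 5, 1],
    [6, 1, 6, 1],
    [7, 1, 7, 1],
    [8, 1, 8, 1],
    [2, 2],
    [3, 2, 3, 2, 3, 2],
    [4, 2, 4, 2],
    [5, 2, 5, 2],
    [6, 2, 6, 2],
    [7, 2, 7, 2],
    [8, 2, 8, 2],
    [3, 3],
    [4, 3, 4, 3, 4, 3],
    [5, 3, 5, 3],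
    [6, 3, 6, 3],
    [7, 3, 7, 3, 7, 3],
    [8, 3, 8, 3],
    [4, 4],
    [5, 4, 5, 4, 5, 4],
    [6, 4, 6, 4],
    [7, 4, 7, 4],
    [8, 4, 8, 4],
    [5, 5],
    [6, 5, 6, 5, 6, 5],
    [7, 5, 7, 5],
    [8, 5, 8, 5],
    [6, 6],
    [7, 6, 7, 6],
    [8, 6, 8, 6],
    [7, 7],
    [8, 7, 8, 7, 8, 7],
    [8, 8],
    [8, 7, 3, 5, 4, 3, 1, 2, 3, 8, 7, 3, 5, 4, 3, 1, 2, 3, 8, 7, 3, 5, 4, 3, 1, 2, 3, 8, 7, 3, 5, 4, 3, 1, 2, 3, 8, 7, 3, 5, 4, 3, 1, 2, 3, 8, 7, 3, 5, 4, 3, 1, 2, 3, 8, 7, 3, 5, 4, 3, 1, 2, 3, 8, 7, 3, 5, 4, 3, 1, 2, 3, 8, 7, 3, 5, 4, 3, 1, 2, 3, 8, 7, 3, 5, 4, 3, 1, 2, 3],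
    [7, 5, 4, 3, 2, 1, 0, 7, 5, 4, 3, 2, 1, 0, 7, 5, 4, 3, 2, 1, 0, 7, 5, 4, 3, 2, 1, 0, 7, 5, 4, 3, 2, 1, 0, 7, 5, 4, 3, 2, 1, 0, 7, 5, 4, 3, 2, 1, 0, 7, 5, 4, 3, 2, 1, 0, 7, 5, 4, 3, 2, 1, 0],
    [7, 6, 5, 4, 3, 2, 1, 7, 6, 5, 4, 3, 2, 1, 7, 6, 5, 4, 3, 2, 1, 7, 6, 5, 4, 3, 2, 1, 7, 6, 5, 4, 3, 2, 1, 7, 6, 5, 4, 3, 2, 1, 7, 6, 5, 4, 3, 2, 1, 7, 6, 5, 4, 3, 2, 1, 7, 6, 5, 4, 3, 2, 1]]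

/-- The certificate. -/
def cert : IndexCert :=
  ⟨baseWords, halfWords, step⟩

end Cfsg.Lib.CosetEnum.Fi22U62
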