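import Cfsg.Agent.Lib.CosetEnum.Fi22U62.DefsPart0
import Cfsg.Agent.Lib.CosetEnum.Fi22U62.StepsPart0
import Cfsg.Agent.Lib.CosetEnum.Fi22U62.StepsPart1
import Cfsg.Agent.Lib.CosetEnum.Fi22U62.StepsPart2
import Cfsg.Agent.Lib.CosetEnum.Fi22U62.StepsPart3
import Cfsg.Agent.Lib.CosetEnum.Fi22U62.StepsPart4
import Cfsg.Agent.Lib.CosetEnum.Fi22U62.StepsPart5
import Cfsg.Agent.Lib.CosetEnum.Fi22U62.ClosedPart0
import Cfsg.Agent.Lib.CosetEnum.Fi22U62.PermPart0
import Cfsg.Agent.Lib.CosetEnum.Fi22U62.PermPart1

/-! Generated certificate. -/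

set_option autoImplicit false
set_option maxRecDepth 20000

namespace Cfsg.Lib.CosetEnum.Fi22U62

theorem cert_valid : cert.Valid where
  valid :=
    { pos := by decide +kernel
      shifts := by decide +kernel
      defs := defs_0
      steps := (stepsOK_append (m := 7500) (n := 7909) (stepsOK_append (m := 3000) (n := 4500) (stepsOK_append (m := 1500) (n := 1500) steps_0 steps_1) (stepsOK_append (m := 1500) (n := 3000) steps_2 (stepsOK_append (m := 1500) (n := 1500) steps_3 steps_4))) (stepsOK_append (m := 4500) (n := 3409) (stepsOK_append (m := 1500) (n := 3000) steps_5 (stepsOK_append (m := 1500) (n := 1500) steps_6 steps_7)) (stepsOK_append (m := 1500) (n := 1909) steps_8 (stepsOK_append (m := 1500) (n := 409) steps_9 steps_10))))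
      closed := closed_0 }
  pos := by decide +kernel
  halves := by decide +kernel
  perm := (permOK_append (a := 1800) (b := 1710) (permOK_append (a := 900) (b := 900) perm_0 perm_1) (permOK_append (a := 900) (b := 810) perm_2 perm_3))
  tree := by decide +kernel
  fix := by decide +kernel

theorem orb0_ok : orbitOK tabP orb0 pos0 9 3510 693 subWords 693 0 = true := by
  decide +kernel

theorem orb1_ok : orbitOK tabP orb1 pos1 9 3510 2816 subWords 2816 0 = true := by
  decide +kernel

end Cfsg.Lib.CosetEnum.Fi22U62
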